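import Mathlib.AlgebraicGeometry.Modules.Sheaf
import Mathlib.CategoryTheory.Limits.Shapes.Biproducts

/-!
# Modules on a finite disjoint union of open subschemes
-/

set_option autoImplicit false
set_option linter.style.haveILetI false
universe u

open CategoryTheory CategoryTheory.Limits AlgebraicGeometry Opposite TopologicalSpace

noncomputable section

namespace Groth.Agent.Lib.GalType31

attribute [local instance] HasFiniteBiproducts.of_hasFiniteProducts

variable {Y : Scheme.{u}} {ι : Type} [Finite ι] {Z : ι → Scheme.{u}} (j : ∀ i, Z i ⟶ Y)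
  [∀ i, IsOpenImmersion (j i)]

/-- A module on a disjoint union of opens is the sum of the direct images of its restrictions. -/
theorem nonempty_iso_biproduct (hd : Pairwise fun a b => Disjoint (Set.range (j a)) (Set.range (j b)))
    (hc : ∀ y, ∃ i, y ∈ Set.range (j i)) (M : Y.Modules) :
    Nonempty (M ≅ ⨁ fun i => (Scheme.Modules.pushforward (j i)).obj (M.restrict (j i))) := by
  classical
  haveI := Fintype.ofFinite ι
  let F : ι → Y.Modules := fun i => (Scheme.Modules.pushforward (j i)).obj (M.restrict (j i))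
  let Φ : M ⟶ ⨁ F := biproduct.lift fun i => (Scheme.Modules.restrictAdjunction (j i)).unit.app M
  suffices IsIso Φ from ⟨asIso Φ⟩
  refine Scheme.Modules.Hom.isIso_iff_isIso_app.mpr fun U => ?_
  rw [ConcreteCategory.isIso_iff_bijective]
  let V : ι → Y.Opens := fun i => j i ''ᵁ j i ⁻¹ᵁ U
  let res : ∀ i, Γ(M, U) → Γ(M, V i) := fun i => M.presheaf.map (homOfLE ((j i).image_preimage_le U)).op
  have hπ : ∀ (i : ι) (m : Γ(M, U)), (biproduct.π F i).app U (Φ.app U m) = res i m := fun i m => by
    have h : Φ ≫ biproduct.π F i = (Scheme.Modules.restrictAdjunction (j i)).unit.app M :=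
      biproduct.lift_π _ i
    have h' := congrArg (fun (q : M ⟶ F i) => q.app U m) h
    exact h'
  have hcov : U ≤ ⨆ i, V i := fun y hy => by
    obtain ⟨i, z, rfl⟩ := hc y
    exact Opens.mem_iSup.2 ⟨i, z, hy, rfl⟩
  have hext : ∀ (s : Γ(⨁ F, U)), (∀ i, (biproduct.π F i).app U s = 0) → s = 0 := fun s hs => by
    have h : ∑ i, biproduct.π F i ≫ biproduct.ι F i = 𝟙 _ := biproduct.total
    let G : (⨁ F ⟶ ⨁ F) →+ Γ(⨁ F, U) :=
      AddMonoidHom.mk' (fun q => q.app U s) fun a b => rfl
    have h1 : G (∑ i, biproduct.π F i ≫ biproduct.ι F i) = s := by rw [h]; rfl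
    rw [map_sum] at h1
    rw [← h1]
    refine Finset.sum_eq_zero fun i _ => ?_
    show (biproduct.ι F i).app U ((biproduct.π F i).app U s) = 0
    rw [hs i]
    exact map_zero ((biproduct.ι F i).app U).hom
  refine ⟨fun a b hab => ?_, fun s => ?_⟩
  · refine TopCat.Sheaf.eq_of_locally_eq' (⟨M.presheaf, M.isSheaf⟩ : TopCat.Sheaf Ab.{u} Y) V U
      (fun i => homOfLE ((j i).image_preimage_le U)) hcov a b fun i => ?_
    have := congrArg ((biproduct.π F i).app U) hab
    rwa [hπ, hπ] at this
  · let t : ∀ i, Γ(M, V i) := fun i => (biproduct.π F i).app U s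
    have hbot : ∀ (W : Y.Opens), W ≤ ⊥ → ∀ a b : Γ(M, W), a = b := fun W hW a b =>
      TopCat.Sheaf.eq_of_locally_eq' (⟨M.presheaf, M.isSheaf⟩ : TopCat.Sheaf Ab.{u} Y)
        (fun i : PEmpty.{1} => (⊥ : Y.Opens)) W (fun i => i.elim) (hW.trans bot_le) a b fun i => i.elim
    have hcompat : TopCat.Presheaf.IsCompatible M.presheaf V t := fun a b => by
      by_cases h : a = b
      · subst h; rfl
      · refine hbot _ (fun y hy => ?_) _ _
        obtain ⟨⟨z, -, hz⟩, w, -, hw⟩ := hy
        exact ((Set.disjoint_left.1 (hd h)) ⟨z, hz⟩ ⟨w, hw⟩).elim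
    obtain ⟨m, hm, -⟩ := TopCat.Sheaf.existsUnique_gluing' (⟨M.presheaf, M.isSheaf⟩ : TopCat.Sheaf Ab.{u} Y)
      V U (fun i => homOfLE ((j i).image_preimage_le U)) hcov t hcompat
    refine ⟨m, sub_eq_zero.1 (hext _ fun i => ?_)⟩
    rw [map_sub, hπ]
    exact sub_eq_zero.2 (hm i)

/-- Modules that agree on the pieces of a finite disjoint union are isomorphic. -/
theorem nonempty_iso_of_pieces (hd : Pairwise fun a b => Disjoint (Set.range (j a)) (Set.range (j b)))
    (hc : ∀ y, ∃ i, y ∈ Set.range (j i)) (M N : Y.Modules)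
    (h : ∀ i, Nonempty (M.restrict (j i) ≅ N.restrict (j i))) : Nonempty (M ≅ N) := by
  haveI := Fintype.ofFinite ι
  obtain ⟨a⟩ := nonempty_iso_biproduct j hd hc M
  obtain ⟨b⟩ := nonempty_iso_biproduct j hd hc N
  exact ⟨a ≪≫ biproduct.mapIso (fun i => (Scheme.Modules.pushforward (j i)).mapIso (h i).some) ≪≫ b.symm⟩

end Groth.Agent.Lib.GalType31
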