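import Groth.Agent.Lib.GalType31.Clopen
import Groth.Agent.Lib.SBTwist.Main
import Groth.Agent.S4788
import Groth.Agent.H47.ModStageFree
import Mathlib.RingTheory.Etale.Field
import Mathlib.RingTheory.Unramified.Field
import Mathlib.FieldTheory.IsSepClosed
import Mathlib.AlgebraicGeometry.Morphisms.FlatMono

/-!
# Galois invariant bundles over a separable closure are types of bundles over the base
-/

set_option autoImplicit false
set_option linter.style.haveILetI false
universe u

open CategoryTheory CategoryTheory.Limits AlgebraicGeometry Opposite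

noncomputable section

namespace Groth.Agent.Lib.GalType31

open Groth.Agent.Lib Groth.Agent.S8230 W4c1astiltbs12 TensorMod.Basic

variable {k : Type u} [Field k] {X : Scheme.{u}} (p : X ⟶ Spec (CommRingCat.of k)) [IsProper p]
  (K : Type u) [Field K] [Algebra k K]

/-- A finite locally free module on `X_K` is defined over a finite subextension. -/
theorem exists_descend [Algebra.IsAlgebraic k K] (W : (W4bk4gw11416.baseChange p K).Modules)
    (hW : FlatMod.IsFinLocFree W) :
    ∃ L : Fin' k K, ∃ (cL : W4bk4gw11416.baseChange p K ⟶ W4bk4gw11416.baseChange p L.1)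
      (M : (W4bk4gw11416.baseChange p L.1).Modules),
      cL ≫ proj p L.1 = proj p K ∧
      cL ≫ W4bk4gw11416.baseChangeTo p L.1 =
        W4bk4gw11416.baseChangeTo p K ≫ Spec.map (CommRingCat.ofHom (algebraMap L.1 K)) ∧
      FlatMod.IsFinLocFree M ∧ Nonempty ((Scheme.Modules.pullback cL).obj M ≅ W) := by
  haveI : IsCofiltered (Fin' k K)ᵒᵖ := isCofiltered_op_of_isFiltered _
  haveI : ∀ i, CompactSpace ((diag (K := K) p).obj i) := fun i =>
    have h : CompactSpace (W4bk4gw11416.baseChange p i.unop.1) :=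
      QuasiCompact.compactSpace_of_compactSpace (W4bk4gw11416.baseChangeTo p i.unop.1)
    h
  haveI : ∀ i, QuasiSeparatedSpace ((diag (K := K) p).obj i) := fun i =>
    have h : QuasiSeparatedSpace (W4bk4gw11416.baseChange p i.unop.1) :=
      quasiSeparatedSpace_of_quasiSeparated (W4bk4gw11416.baseChangeTo p i.unop.1)
    h
  obtain ⟨i₀⟩ := IsCofiltered.nonempty (C := (Fin' k K)ᵒᵖ)
  haveI : Coh.IsQCoh (X := (cone (K := K) p).pt) W := TensorMod.QCohInv.isQCoh_of_isFinLocFree hW
  obtain ⟨i, -, Fi, hq, hfp, ⟨e⟩⟩ := Groth.Agent.S4788.result (diag (K := K) p) (cone (K := K) p) (isLimit p)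
    i₀ W (TensorMod.FPConv.isFP_of_isFinLocFree hW)
  haveI : Fi.IsQuasicoherent := hq
  obtain ⟨j, φ, hj⟩ := (H47.ModStageFree.locFree_iff i Fi (isLimit p) hfp).1
    (TensorMod.LocFree.of_iso e.symm hW)
  refine ⟨j.unop, (cone (K := K) p).π.app j, (Scheme.Modules.pullback ((diag (K := K) p).map φ)).obj Fi,
    ?_, ?_, hj, ⟨(Scheme.Modules.pullbackComp _ _).app Fi ≪≫
      (Scheme.Modules.pullbackCongr ((cone (K := K) p).w φ)).app Fi ≪≫ e⟩⟩
  · exact (pullback.lift_fst _ _ _).trans (Category.comp_id _)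
  · exact pullback.lift_snd _ _ _

variable [IsSepClosure k K]

/-- A Galois invariant bundle is the type of a bundle over the base. -/
theorem exists_push (W : (W4bk4gw11416.baseChange p K).Modules) (hW : FlatMod.IsFinLocFree W)
    (hinv : ∀ σ : K ≃ₐ[k] K, Nonempty ((Scheme.Modules.pullback (galAct p K σ)).obj W ≅ W)) :
    ∃ (E : X.Modules) (d : ℕ), FlatMod.IsFinLocFree E ∧ 0 < d ∧
      Nonempty (bcMod p K E ≅ pow W d) := by
  haveI : IsSepClosed K := IsSepClosure.sep_closed k
  haveI : IsGalois k K := IsSepClosure.isGalois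
  obtain ⟨⟨L, hLfin⟩, cL, M, hcL1, hcL2, hM, ⟨β⟩⟩ := exists_descend p K W hW
  change FiniteDimensional k L at hLfin
  haveI := hLfin
  change cL ≫ proj p L = _ at hcL1
  change cL ≫ W4bk4gw11416.baseChangeTo p L =
    W4bk4gw11416.baseChangeTo p K ≫ Spec.map (CommRingCat.ofHom (algebraMap L K)) at hcL2
  haveI : Algebra.IsSeparable k L := Algebra.isSeparable_tower_bot_of_isSeparable k L K
  let sL : Spec (CommRingCat.of L) ⟶ Spec (CommRingCat.of k) :=
    Spec.map (CommRingCat.ofHom (algebraMap k L))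
  let sK : Spec (CommRingCat.of K) ⟶ Spec (CommRingCat.of k) :=
    Spec.map (CommRingCat.ofHom (algebraMap k K))
  haveI : IsFinite sL := (IsFinite.SpecMap_iff _).2 (RingHom.finite_algebraMap.2 hLfin)
  haveI : Flat sL := FibreDeg.Basic.flat_of_field sL
  haveI : LocallyOfFinitePresentation sL := LocallyOfFinitePresentation.iff_locallyOfFiniteType.2 inferInstance
  haveI : FormallyUnramified sL :=
    (HasRingHomProperty.Spec_iff (P := @FormallyUnramified)).2
      (RingHom.formallyUnramified_algebraMap.2 (Algebra.FormallyUnramified.of_isSeparable k L))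
  haveI : Etale sL := Etale.of_formallyUnramified_of_flat sL
  haveI : Surjective sL := ⟨fun t => ⟨IsLocalRing.closedPoint L, Subsingleton.elim _ _⟩⟩
  let S := pullback sL sK
  let a : S ⟶ Spec (CommRingCat.of L) := pullback.fst sL sK
  let h : S ⟶ Spec (CommRingCat.of K) := pullback.snd sL sK
  haveI : IsFinite h := MorphismProperty.pullback_snd sL sK ‹_›
  haveI : Etale h := MorphismProperty.pullback_snd sL sK ‹_›
  haveI : Flat h := inferInstance
  haveI : Surjective h := MorphismProperty.pullback_snd sL sK ‹_›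
  -- the points
  have hg : ∀ σ : L →ₐ[k] K, 𝟙 (Spec (CommRingCat.of K)) ≫ sK =
      Spec.map (CommRingCat.ofHom σ.toRingHom) ≫ sL := fun σ => by
    rw [Category.id_comp, ← Spec.map_comp]
    exact congrArg Spec.map (CommRingCat.hom_ext (RingHom.ext fun r => (σ.commutes r).symm))
  let g : (L →ₐ[k] K) → (Spec (CommRingCat.of K) ⟶ S) := fun σ =>
    pullback.lift (Spec.map (CommRingCat.ofHom σ.toRingHom)) (𝟙 _) (hg σ).symm
  have hgh : ∀ σ, g σ ≫ h = 𝟙 _ := fun σ => pullback.lift_snd _ _ _
  have hga : ∀ σ, g σ ≫ a = Spec.map (CommRingCat.ofHom σ.toRingHom) := fun σ => pullback.lift_fst _ _ _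
  haveI hgopen : ∀ σ, IsOpenImmersion (g σ) := fun σ => by
    haveI : Etale (g σ ≫ h) := by rw [hgh σ]; infer_instance
    haveI : Etale (g σ) := Etale.of_comp (g σ) h
    haveI : IsSplitMono (g σ) := ⟨⟨⟨h, hgh σ⟩⟩⟩
    exact IsOpenImmersion.of_flat_of_mono (g σ)
  have hginj : ∀ σ τ, Set.range (g σ) ⊆ Set.range (g τ) → σ = τ := fun σ τ hr => by
    let l := IsOpenImmersion.lift (g τ) (g σ) hr
    have hl : l ≫ g τ = g σ := IsOpenImmersion.lift_fac (g τ) (g σ) hr
    have hl1 : l = 𝟙 _ := by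
      have h1 := congrArg (· ≫ h) hl
      simp only [Category.assoc, hgh, Category.comp_id] at h1
      exact h1
    rw [hl1, Category.id_comp] at hl
    have h2 := congrArg (· ≫ a) hl
    simp only [hga] at h2
    have h3 := Spec.map_injective h2
    exact AlgHom.ext fun x => (ConcreteCategory.congr_hom h3 x).symm
  have hgsurj : ∀ s : S, ∃ σ, s ∈ Set.range (g σ) := fun s => by
    let Ω := AlgebraicClosure (S.residueField s)
    let q : Spec (CommRingCat.of Ω) ⟶ S :=
      Spec.map (CommRingCat.ofHom (algebraMap (S.residueField s) Ω)) ≫ S.fromSpecResidueField s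
    have hq : q (IsLocalRing.closedPoint Ω) = s := by
      show S.fromSpecResidueField s (Spec.map (CommRingCat.ofHom (algebraMap (S.residueField s) Ω)) _) = s
      exact Scheme.fromSpecResidueField_apply _ _
    let cK : CommRingCat.of K ⟶ CommRingCat.of Ω := Spec.preimage (q ≫ h)
    let cLh : CommRingCat.of L ⟶ CommRingCat.of Ω := Spec.preimage (q ≫ a)
    have hc : CommRingCat.ofHom (algebraMap k L) ≫ cLh = CommRingCat.ofHom (algebraMap k K) ≫ cK := by
      refine Spec.map_injective ?_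
      rw [Spec.map_comp, Spec.map_comp, Spec.map_preimage, Spec.map_preimage, Category.assoc, Category.assoc]
      exact congrArg (q ≫ ·) pullback.condition
    letI : Algebra K Ω := cK.hom.toAlgebra
    letI : Algebra k Ω := (cK.hom.comp (algebraMap k K)).toAlgebra
    haveI : IsScalarTower k K Ω := IsScalarTower.of_algebraMap_eq fun _ => rfl
    let φ : L →ₐ[k] Ω := { cLh.hom with commutes' := fun r => ConcreteCategory.congr_hom hc r }
    have hmem : ∀ x : L, φ x ∈ (IsScalarTower.toAlgHom k K Ω).range := fun x => by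
      have hsep : IsSeparable k x := Algebra.IsSeparable.isSeparable k x
      have hspl : ((minpoly k x).map (algebraMap k K)).Splits :=
        IsSepClosed.splits_of_separable _ (Polynomial.Separable.map hsep)
      have h0 : Polynomial.aeval (φ x) (minpoly k x) = 0 := by
        rw [Polynomial.aeval_algHom_apply, minpoly.aeval, map_zero]
      have hroot : Polynomial.eval₂ (algebraMap K Ω) (φ x) ((minpoly k x).map (algebraMap k K)) = 0 := by
        rw [Polynomial.eval₂_map, ← IsScalarTower.algebraMap_eq k K Ω]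
        exact h0
      have hne : (minpoly k x).map (algebraMap k K) ≠ 0 :=
        Polynomial.map_ne_zero (minpoly.ne_zero hsep.isIntegral)
      exact hspl.mem_range_of_isRoot hne (by rw [Polynomial.IsRoot.def, Polynomial.eval_map]; exact hroot)
    let ψ : L →ₐ[k] K := ((AlgEquiv.ofInjective (IsScalarTower.toAlgHom k K Ω)
      (RingHom.injective cK.hom)).symm.toAlgHom).comp (φ.codRestrict _ hmem)
    have hψ : ∀ x, cK.hom (ψ x) = φ x := fun x => by
      have := congrArg Subtype.val ((AlgEquiv.ofInjective (IsScalarTower.toAlgHom k K Ω)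
        (RingHom.injective cK.hom)).apply_symm_apply (φ.codRestrict _ hmem x))
      exact this
    refine ⟨ψ, ?_⟩
    have hqg : q = Spec.map cK ≫ g ψ := by
      apply pullback.hom_ext
      · show q ≫ a = (Spec.map cK ≫ g ψ) ≫ a
        refine Eq.trans ?_ (Category.assoc _ _ _).symm
        rw [hga ψ, ← Spec.map_comp]
        refine (Spec.map_preimage (q ≫ a)).symm.trans (congrArg Spec.map ?_)
        exact CommRingCat.hom_ext (RingHom.ext fun x => (hψ x).symm)
      · show q ≫ h = (Spec.map cK ≫ g ψ) ≫ h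
        refine Eq.trans ?_ (Category.assoc _ _ _).symm
        rw [hgh ψ, Category.comp_id, Spec.map_preimage]
    rw [← hq, hqg]
    exact ⟨Spec.map cK (IsLocalRing.closedPoint Ω), rfl⟩
  -- the product
  let bcK := W4bk4gw11416.baseChangeTo p K
  let pY : pullback bcK h ⟶ W4bk4gw11416.baseChange p K := pullback.fst _ _
  let bY : pullback bcK h ⟶ S := pullback.snd _ _
  have sqY : IsPullback pY bY bcK h := IsPullback.of_hasPullback _ _
  have hcond : (pY ≫ proj p K) ≫ p = (bY ≫ a) ≫ sL := by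
    simp only [Category.assoc]
    rw [show a ≫ sL = h ≫ sK from pullback.condition, show proj p K ≫ p = bcK ≫ sK from
      pullback.condition, ← Category.assoc, sqY.w, Category.assoc]
  let ρ : pullback bcK h ⟶ W4bk4gw11416.baseChange p L := pullback.lift (pY ≫ proj p K) (bY ≫ a) hcond
  have hρ1 : ρ ≫ proj p L = pY ≫ proj p K := pullback.lift_fst _ _ _
  have hρ2 : ρ ≫ W4bk4gw11416.baseChangeTo p L = bY ≫ a := pullback.lift_snd _ _ _
  have sqK : IsPullback (proj p K) bcK p sK := IsPullback.of_hasPullback _ _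
  have sqL : IsPullback (proj p L) (W4bk4gw11416.baseChangeTo p L) p sL := IsPullback.of_hasPullback _ _
  have sqS : IsPullback a h sL sK := IsPullback.of_hasPullback _ _
  have sq1 : IsPullback (ρ ≫ proj p L) bY p (a ≫ sL) := by
    rw [hρ1, sqS.w]
    exact sqY.paste_horiz sqK
  have sq2 : IsPullback ρ bY (W4bk4gw11416.baseChangeTo p L) a := IsPullback.of_right sq1 hρ2 sqL
  have sq3 : IsPullback ρ (pY ≫ bcK) (proj p L ≫ p) sK := by
    rw [sqY.w, sqL.w]
    exact sq2.paste_vert sqS
  have sq : IsPullback ρ pY (proj p L) (proj p K) := IsPullback.of_bot sq3 hρ1 sqK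
  haveI : IsFinite (proj p L) := MorphismProperty.pullback_fst p sL ‹_›
  haveI : Flat (proj p L) := MorphismProperty.pullback_fst p sL ‹_›
  haveI : LocallyOfFinitePresentation (proj p L) := MorphismProperty.pullback_fst p sL ‹_›
  haveI : Flat sK := FibreDeg.Basic.flat_of_field sK
  haveI : Flat (proj p K) := MorphismProperty.pullback_fst p sK ‹_›
  haveI : Flat bcK := FibreDeg.Basic.flat_of_field _
  haveI : IsFinite pY := MorphismProperty.pullback_fst bcK h ‹_›
  haveI : M.IsQuasicoherent := TensorMod.QCohInv.isQCoh_of_isFinLocFree hM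
  haveI : W.IsQuasicoherent := TensorMod.QCohInv.isQCoh_of_isFinLocFree hW
  -- the pieces
  let γ : (L →ₐ[k] K) → (W4bk4gw11416.baseChange p K ⟶ pullback bcK h) := fun σ =>
    pullback.lift (𝟙 _) (bcK ≫ g σ) (by rw [Category.id_comp, Category.assoc, hgh σ, Category.comp_id])
  have hγ1 : ∀ σ, γ σ ≫ pY = 𝟙 _ := fun σ => pullback.lift_fst _ _ _
  have hγ2 : ∀ σ, γ σ ≫ bY = bcK ≫ g σ := fun σ => pullback.lift_snd _ _ _
  have sqγ : ∀ σ, IsPullback (γ σ) bcK bY (g σ) := fun σ => by
    refine IsPullback.of_right ?_ (hγ2 σ) sqY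
    rw [hγ1, hgh σ]
    exact IsPullback.of_horiz_isIso ⟨by simp⟩
  haveI : ∀ σ, IsOpenImmersion (γ σ) := fun σ =>
    MorphismProperty.of_isPullback (sqγ σ).flip (hgopen σ)
  have hrange : ∀ σ, Set.range (γ σ) = bY ⁻¹' Set.range (g σ) := fun σ => by
    rw [← Scheme.Pullback.range_fst bY (g σ)]
    ext y
    constructor
    · rintro ⟨z, rfl⟩
      exact ⟨(sqγ σ).isoPullback.hom z, congrArg (fun q : W4bk4gw11416.baseChange p K ⟶ pullback bcK h => q z) (sqγ σ).isoPullback_hom_fst⟩
    · rintro ⟨z, rfl⟩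
      exact ⟨(sqγ σ).isoPullback.inv z, congrArg (fun q : pullback bY (g σ) ⟶ pullback bcK h => q z) (sqγ σ).isoPullback_inv_fst⟩
  have hpieces : ∀ σ, Nonempty (((Scheme.Modules.pullback ρ).obj M).restrict (γ σ) ≅
      ((Scheme.Modules.pullback pY).obj W).restrict (γ σ)) := fun σ => by
    let τ : K ≃ₐ[k] K := AlgEquiv.ofBijective (σ.liftNormal K)
      (Algebra.IsAlgebraic.algHom_bijective _)
    have hτ : ∀ x : L, τ (algebraMap L K x) = σ x := fun x => AlgHom.liftNormal_commutes σ K x
    obtain ⟨iτ⟩ := hinv τ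
    have hv : galAct p K τ ≫ cL = γ σ ≫ ρ := by
      apply pullback.hom_ext
      · show (galAct p K τ ≫ cL) ≫ proj p L = (γ σ ≫ ρ) ≫ proj p L
        rw [Category.assoc, hcL1, Category.assoc, hρ1, reassoc_of% (hγ1 σ)]
        exact (pullback.lift_fst _ _ _).trans (Category.comp_id _)
      · show (galAct p K τ ≫ cL) ≫ W4bk4gw11416.baseChangeTo p L =
          (γ σ ≫ ρ) ≫ W4bk4gw11416.baseChangeTo p L
        rw [Category.assoc, hcL2, Category.assoc, hρ2, reassoc_of% (hγ2 σ), hga σ]
        have h5 : galAct p K τ ≫ bcK = bcK ≫ Spec.map (CommRingCat.ofHom (τ : K →+* K)) :=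
          pullback.lift_snd _ _ _
        rw [reassoc_of% h5, ← Spec.map_comp]
        exact congrArg (bcK ≫ ·) (congrArg Spec.map (CommRingCat.hom_ext (RingHom.ext fun x => hτ x)))
    exact ⟨(Scheme.Modules.restrictFunctorIsoPullback (γ σ)).app _ ≪≫
      (Scheme.Modules.pullbackComp _ _).app M ≪≫ (Scheme.Modules.pullbackCongr hv.symm).app M ≪≫
      ((Scheme.Modules.pullbackComp _ _).app M).symm ≪≫ (Scheme.Modules.pullback _).mapIso β ≪≫ iτ ≪≫
      ((Scheme.Modules.pullbackId _).app W).symm ≪≫ (Scheme.Modules.pullbackCongr (hγ1 σ).symm).app W ≪≫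
      ((Scheme.Modules.pullbackComp _ _).app W).symm ≪≫
      ((Scheme.Modules.restrictFunctorIsoPullback (γ σ)).app _).symm⟩
  haveI : Finite (L →ₐ[k] K) := inferInstance
  let en := Finite.equivFin (L →ₐ[k] K)
  have hd : Pairwise fun i i' => Disjoint (Set.range (γ (en.symm i))) (Set.range (γ (en.symm i'))) := by
    intro i i' hne
    rw [hrange, hrange]
    refine Disjoint.preimage _ (Set.disjoint_left.2 fun s ⟨x, hx⟩ ⟨y, hy⟩ => hne (en.symm.injective ?_))
    refine hginj _ _ ?_
    rintro _ ⟨z, rfl⟩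
    exact ⟨y, by rw [hy, ← hx, Subsingleton.elim z x]⟩
  have hc : ∀ y, ∃ i, y ∈ Set.range (γ (en.symm i)) := fun y => by
    obtain ⟨σ, hσ⟩ := hgsurj (bY y)
    exact ⟨en σ, by rw [hrange, Equiv.symm_apply_apply]; exact hσ⟩
  obtain ⟨i2⟩ := nonempty_iso_of_pieces (fun i => γ (en.symm i)) hd hc
    ((Scheme.Modules.pullback ρ).obj M) ((Scheme.Modules.pullback pY).obj W) fun i => hpieces _
  -- the pushed structure module
  obtain ⟨d, hd, ⟨eO⟩⟩ : ∃ d, 0 < d ∧ Nonempty ((Scheme.Modules.pushforward h).obj (Coh.structureModule S) ≅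
      FlatMod.freeMod (Spec (CommRingCat.of K)) d) := by
    obtain ⟨t⟩ : Nonempty (Spec (CommRingCat.of K) : Scheme.{u}) := ⟨IsLocalRing.closedPoint K⟩
    have hfl := ResDescend36.Proj.isFinLocFree_pushforward h
      (TensorMod.LocFree.of_rank (TensorMod.LocFree.of_isInvertible (PicLoc.isInvertible_structureModule S)))
    obtain ⟨U, d, ht, hd⟩ := hfl t
    have hr : FlatMod.IsFinLocFreeOfRank d ((Scheme.Modules.pushforward h).obj (Coh.structureModule S)) :=
      fun x => ⟨U, by rw [Subsingleton.elim x t]; exact ht, hd⟩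
    obtain ⟨i⟩ := (H97.EulerFinite.exists_iso_free hr).resolve_right (fun hE => hE.false t)
    refine ⟨d, Nat.pos_of_ne_zero fun hd0 => ?_, ⟨i⟩⟩
    subst hd0
    obtain ⟨s, -⟩ := h.surjective t
    have hz : IsZero ((Scheme.Modules.pushforward h).obj (Coh.structureModule S)) :=
      IsZero.of_iso ((IsZero.iff_id_eq_zero _).mpr (Sigma.hom_ext _ _ fun i => i.elim0)) i
    haveI : Subsingleton Γ(S, ⊤) :=
      subsingleton_of_forall_eq (0 : Γ((Scheme.Modules.pushforward h).obj (Coh.structureModule S), ⊤))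
        fun x => by
          have h0 := congrArg (fun q => Scheme.Modules.Hom.app q ⊤ x) ((IsZero.iff_id_eq_zero _).1 hz)
          exact h0
    haveI : IsAffine S := inferInstance
    haveI : IsEmpty (PrimeSpectrum Γ(S, ⊤)) := inferInstance
    haveI : IsEmpty ↥(Spec Γ(S, ⊤)) := inferInstanceAs (IsEmpty (PrimeSpectrum Γ(S, ⊤)))
    haveI : IsEmpty S := Function.isEmpty S.isoSpec.hom
    exact isEmptyElim s
  refine ⟨(Scheme.Modules.pushforward (proj p L)).obj M, d,
    ResDescend36.Proj.isFinLocFree_pushforward _ hM, hd, ?_⟩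
  haveI := CohDelta.BC.Flat.isIso_bc0 (proj p L) (proj p K) ρ pY sq M
  haveI := ResDescend36.Proj.isIso_projMap pY W
  haveI : (Coh.structureModule S).IsQuasicoherent := TensorMod.QCohInv.isQCoh_structureModule S
  haveI := CohDelta.BC.Flat.isIso_bc0 h bcK bY pY sqY.flip (Coh.structureModule S)
  let eP : H81.PushLocFree.push pY ≅ FlatMod.freeMod (W4bk4gw11416.baseChange p K) d :=
    ((Scheme.Modules.pushforward pY).mapIso (PicLoc.pullbackStructureIso bY)).symm ≪≫
      (asIso (CohBC.bc0 h bcK pY bY sqY.flip.w (Coh.structureModule S))).symm ≪≫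
      (Scheme.Modules.pullback _).mapIso eO ≪≫ TensorMod.LocFree.pullbackFreeModIso _ d
  obtain ⟨eT⟩ := SBTwist.nonempty_tensor_free W d
  exact ⟨asIso (CohBC.bc0 (proj p L) (proj p K) pY ρ sq.w M) ≪≫
    (Scheme.Modules.pushforward pY).mapIso i2 ≪≫ (asIso (ResDescend36.Proj.projMap pY W)).symm ≪≫
    tensorIso (Iso.refl _) eP ≪≫ eT⟩

/-- A Galois invariant indecomposable is the type of an indecomposable over the base. -/
theorem exists_type (W : (W4bk4gw11416.baseChange p K).Modules) (hW : FlatMod.IsFinLocFree W)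
    (hWi : CohDelta.KS.Ind W)
    (hinv : ∀ σ : K ≃ₐ[k] K, Nonempty ((Scheme.Modules.pullback (galAct p K σ)).obj W ≅ W)) :
    ∃ (M : X.Modules) (r : ℕ), FlatMod.IsFinLocFree M ∧ CohDelta.KS.Ind M ∧ 0 < r ∧
      Nonempty (bcMod p K M ≅ pow W r) := by
  haveI : IsLocallyNoetherian X := LocallyOfFiniteType.isLocallyNoetherian p
  haveI : IsProper (W4bk4gw11416.baseChangeTo p K) := inferInstance
  haveI : IsLocallyNoetherian (W4bk4gw11416.baseChange p K) :=
    LocallyOfFiniteType.isLocallyNoetherian (W4bk4gw11416.baseChangeTo p K)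
  haveI : IsGalois k K := IsSepClosure.isGalois
  obtain ⟨E, d, hE, hd, ⟨eE⟩⟩ := exists_push p K W hW hinv
  have hEc := Perfect.Coherent.isCoh_of_isFinLocFree hE
  have hWc := Perfect.Coherent.isCoh_of_isFinLocFree hW
  haveI := CohDelta.KBC.additive_pullback (proj p K)
  have hE0 : ¬ IsZero E := fun hz => hWi.1 <| by
    have h1 := IsZero.of_iso ((Scheme.Modules.pullback (proj p K)).map_isZero hz) eE.symm
    rw [IsZero.iff_id_eq_zero] at h1 ⊢
    have h2 := congrArg (fun q => Sigma.ι (fun _ : Fin d => W) ⟨0, hd⟩ ≫ q ≫ Sigma.desc fun _ => 𝟙 _) h1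
    simpa using h2
  obtain ⟨G, m, hGc, hGi, ⟨i, t, hit⟩, -, -⟩ := CohDelta.KBC.exists_pow_of_isotypic p K hEc hE0 hWc hWi eE
  obtain ⟨a, ⟨ea⟩⟩ := SBTwist.retract_pow (W4bk4gw11416.baseChangeTo p K) hWc hWi
    ((Scheme.Modules.pullback (proj p K)).map i ≫ eE.hom)
    (eE.inv ≫ (Scheme.Modules.pullback (proj p K)).map t) (by
      rw [Category.assoc, Iso.hom_inv_id_assoc, ← Functor.map_comp, hit, CategoryTheory.Functor.map_id])
  refine ⟨G, a, CohDelta.KBC.isFinLocFree_retract i t hit hE, hGi, Nat.pos_of_ne_zero fun h => hGi.1 ?_, ⟨ea⟩⟩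
  subst h
  exact CohDelta.KBC.isZero_of_bc p K hGc
    (IsZero.of_iso ((IsZero.iff_id_eq_zero _).mpr (Sigma.hom_ext _ _ fun i => i.elim0)) ea)

end Groth.Agent.Lib.GalType31
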